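import Groth.Agent.Lib.Helper19.FpqcSep.Eq
import Groth.Agent.Lib.Helper15.AffDesc3
import Groth.Agent.Lib.Helper15.NormSN

/-!
# fpqc descent of a section of a relatively separated algebraic space (helper19)
-/

set_option autoImplicit false
set_option linter.style.haveILetI false
universe u
open CategoryTheory CategoryTheory.Limits AlgebraicGeometry MorphismProperty TopologicalSpace
open AlgSp Groth.Agent.Helper15

namespace Groth.Agent.Helper19.FpqcSep

variable {S : Scheme.{u}}

/-- Two pullbacks of a closed subscheme along `f₁ f₂` have the same ideal as soon as they have the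
same points. -/
theorem comap_eq_comap_of_factor {V W Z : Scheme.{u}} (ι : V ⟶ W) [IsClosedImmersion ι]
    (f₁ f₂ : Z ⟶ W)
    (h12 : ∀ (X : Scheme.{u}) (x : X ⟶ Z) (v : X ⟶ V), v ≫ ι = x ≫ f₁ → ∃ v' : X ⟶ V, v' ≫ ι = x ≫ f₂)
    (h21 : ∀ (X : Scheme.{u}) (x : X ⟶ Z) (v : X ⟶ V), v ≫ ι = x ≫ f₂ → ∃ v' : X ⟶ V, v' ≫ ι = x ≫ f₁) :
    ι.ker.comap f₁ = ι.ker.comap f₂ := by
  rw [← Scheme.IdealSheafData.ker_fst_of_isClosedImmersion, ← Scheme.IdealSheafData.ker_fst_of_isClosedImmersion]
  apply le_antisymm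
  · obtain ⟨v', hv'⟩ := h21 _ (pullback.fst f₂ ι) (pullback.snd f₂ ι) pullback.condition.symm
    have : pullback.lift (pullback.fst f₂ ι) v' hv'.symm ≫ pullback.fst f₁ ι = pullback.fst f₂ ι :=
      pullback.lift_fst _ _ _
    rw [← this]
    exact Scheme.Hom.le_ker_comp _ _
  · obtain ⟨v', hv'⟩ := h12 _ (pullback.fst f₁ ι) (pullback.snd f₁ ι) pullback.condition.symm
    have : pullback.lift (pullback.fst f₁ ι) v' hv'.symm ≫ pullback.fst f₂ ι = pullback.fst f₁ ι :=
      pullback.lift_fst _ _ _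
    rw [← this]
    exact Scheme.Hom.le_ker_comp _ _

section main

variable {P : Sp S} {T T' : Over S} (π : P ⟶ (yon S).obj T) (hπ : IsSeparatedMor π)
  (g : T' ⟶ T) [Flat g.left] [Surjective g.left] [QuasiCompact g.left]
  (lam : (yon S).obj T' ⟶ P) (hlam : lam ≫ π = (yon S).map g)
  (H : ∀ (X : Over S) (x y : X ⟶ T'), x ≫ g = y ≫ g →
    (yon S).map x ≫ lam = (yon S).map y ≫ lam)
  {U V : Over S} (a : (yon S).obj U ⟶ P) (hae : RepWith @Etale a)
  (pV : V ⟶ U) (qV : V ⟶ T') (sqV : IsPullback ((yon S).map pV) ((yon S).map qV) a lam)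
  (hqVs : Surjective qV.left)

include hπ hlam H hae sqV hqVs in
/-- **fpqc descent of a section**: a map `h_{T'} ⟶ P` over `h_T`, with `P ⟶ h_T` separated and
`T' ⟶ T` fpqc, whose two pullbacks to `T' ×_T T'` agree, and which is covered by one etale chart
of `P`, descends to a section over `T`. -/
theorem exists_descent : ∃ l : (yon S).obj T ⟶ P, (yon S).map g ≫ l = lam ∧ l ≫ π = 𝟙 _ := by
  classical
  obtain ⟨u, hu⟩ := (yon S).map_surjective (a ≫ π)
  have hqVe : Etale qV.left := hae.property lam _ _ sqV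
  have sqW : IsPullback (pullback.fst u g) (pullback.snd u g) u g := IsPullback.of_hasPullback u g
  obtain ⟨W, wU, wT, sqW⟩ : ∃ (W : Over S) (wU : W ⟶ U) (wT : W ⟶ T'), IsPullback wU wT u g :=
    ⟨_, _, _, sqW⟩
  have hpq : pV ≫ u = qV ≫ g := (yon S).map_injective (by
    rw [Functor.map_comp, Functor.map_comp, hu, ← hlam, ← Category.assoc, ← Category.assoc, sqV.w])
  obtain ⟨ι, hι1, hι2⟩ : ∃ ι : V ⟶ W, ι ≫ wU = pV ∧ ι ≫ wT = qV :=
    ⟨sqW.lift pV qV hpq, sqW.lift_fst _ _ _, sqW.lift_snd _ _ _⟩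
  -- factorisation criterion
  have crit : ∀ (X : Over S) (w : X ⟶ W), (∃ v : X ⟶ V, v ≫ ι = w) ↔
      (yon S).map (w ≫ wU) ≫ a = (yon S).map (w ≫ wT) ≫ lam := by
    intro X w
    constructor
    · rintro ⟨v, rfl⟩
      rw [Category.assoc, Category.assoc, hι1, hι2, Functor.map_comp, Functor.map_comp,
        Category.assoc, Category.assoc, sqV.w]
    · intro hw
      obtain ⟨v, hv⟩ := (yon S).map_surjective (sqV.lift _ _ hw)
      refine ⟨v, sqW.hom_ext ?_ ?_⟩
      · apply (yon S).map_injective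
        rw [Category.assoc, hι1, Functor.map_comp, hv, sqV.lift_fst]
      · apply (yon S).map_injective
        rw [Category.assoc, hι2, Functor.map_comp, hv, sqV.lift_snd]
  -- `ι` is a closed immersion
  have hιcl : IsClosedImmersion ι.left := by
    have hm : ((yon S).map wU ≫ a) ≫ π = ((yon S).map wT ≫ lam) ≫ π := by
      rw [Category.assoc, Category.assoc, ← hu, hlam, ← Functor.map_comp, ← Functor.map_comp, sqW.w]
    obtain ⟨E, i, hcl, hi, huniv⟩ := exists_equalizer π hπ _ _ hm
    have h1 : (yon S).map ι ≫ (yon S).map wU ≫ a = (yon S).map ι ≫ (yon S).map wT ≫ lam := by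
      rw [← Category.assoc, ← Category.assoc, ← Functor.map_comp, ← Functor.map_comp]
      exact (crit V ι).1 ⟨𝟙 _, Category.id_comp _⟩
    obtain ⟨k, hk⟩ := huniv V ι h1
    have h2 : (yon S).map (i ≫ wU) ≫ a = (yon S).map (i ≫ wT) ≫ lam := by
      rw [Functor.map_comp, Functor.map_comp, Category.assoc, Category.assoc]
      exact hi
    obtain ⟨k', hk'⟩ := (crit E i).2 h2
    haveI : Mono i.left := by haveI := hcl; infer_instance
    haveI : Mono i := (Over.forget S).mono_of_mono_map this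
    have hkk' : k ≫ k' = 𝟙 V := by
      apply (yon S).map_injective
      apply sqV.hom_ext
      · rw [← Functor.map_comp, Category.assoc, ← hι1, ← Category.assoc k', hk', ← Category.assoc,
          hk, CategoryTheory.Functor.map_id, Category.id_comp]
      · rw [← Functor.map_comp, Category.assoc, ← hι2, ← Category.assoc k', hk', ← Category.assoc,
          hk, CategoryTheory.Functor.map_id, Category.id_comp]
    have hk'k : k' ≫ k = 𝟙 E := by
      rw [← cancel_mono i, Category.assoc, hk, hk', Category.id_comp]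
    haveI : IsIso k := ⟨k', hkk', hk'k⟩
    haveI : IsIso k.left := inferInstanceAs (IsIso ((Over.forget S).map k))
    have : ι.left = k.left ≫ i.left := by rw [← Over.comp_left, hk]
    rw [this]
    haveI := hcl
    infer_instance
  haveI := hιcl
  -- `wU : W ⟶ U` is fpqc
  have sqWs : IsPullback wU.left wT.left u.left g.left := sqW.map (Over.forget S)
  haveI : Flat wU.left := MorphismProperty.of_isPullback (P := @Flat) sqWs.flip inferInstance
  haveI : Surjective wU.left :=
    MorphismProperty.of_isPullback (P := @Surjective) sqWs.flip inferInstance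
  haveI : QuasiCompact wU.left :=
    MorphismProperty.of_isPullback (P := @QuasiCompact) sqWs.flip inferInstance
  -- the descent condition
  have key : ∀ (X : Scheme.{u}) (y₁ y₂ : X ⟶ W.left) (_ : y₁ ≫ wU.left = y₂ ≫ wU.left)
      (v : X ⟶ V.left), v ≫ ι.left = y₁ → ∃ v' : X ⟶ V.left, v' ≫ ι.left = y₂ := by
    intro X y₁ y₂ hy v hv
    have hW : W.hom = wU.left ≫ U.hom := (Over.w wU).symm
    let X' : Over S := Over.mk (y₁ ≫ W.hom)
    let w₁ : X' ⟶ W := Over.homMk y₁ rfl
    let w₂ : X' ⟶ W := Over.homMk y₂ (by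
      change y₂ ≫ W.hom = y₁ ≫ W.hom
      rw [hW, ← Category.assoc, ← hy, Category.assoc])
    let v₁ : X' ⟶ V := Over.homMk v (by
      change v ≫ V.hom = y₁ ≫ W.hom
      rw [← hv, Category.assoc, Over.w ι])
    have hv₁ : v₁ ≫ ι = w₁ := by
      apply Over.OverMorphism.ext
      exact hv
    have h1 := (crit X' w₁).1 ⟨v₁, hv₁⟩
    have hwU : w₁ ≫ wU = w₂ ≫ wU := by
      apply Over.OverMorphism.ext
      exact hy
    have hwT : (w₁ ≫ wT) ≫ g = (w₂ ≫ wT) ≫ g := by
      rw [Category.assoc, Category.assoc, ← sqW.w, ← Category.assoc, hwU, Category.assoc]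
    have h2 := H X' _ _ hwT
    rw [hwU, h2] at h1
    obtain ⟨v₂, hv₂⟩ := (crit X' w₂).2 h1
    exact ⟨v₂.left, by rw [← Over.comp_left, hv₂]; rfl⟩
  have hJ : ι.left.ker.comap (pullback.fst wU.left wU.left) =
      ι.left.ker.comap (pullback.snd wU.left wU.left) := by
    apply comap_eq_comap_of_factor
    · intro X x v hv
      exact key X _ _ (by rw [Category.assoc, Category.assoc, pullback.condition]) v hv
    · intro X x v hv
      exact key X _ _ (by rw [Category.assoc, Category.assoc, pullback.condition]) v hv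
  obtain ⟨J, hJ'⟩ := Groth.Agent.Helper23.FpqcIdeal.exists_comap_eq wU.left ι.left.ker hJ
  -- the descended closed subscheme `U₀ ⊆ U`
  let U₀ : Over S := Over.mk (J.subschemeι ≫ U.hom)
  let i₀ : U₀ ⟶ U := Over.homMk J.subschemeι rfl
  have hle : J.subschemeι.ker ≤ (ι.left ≫ wU.left).ker := by
    rw [Scheme.IdealSheafData.ker_subschemeι, Scheme.Hom.ker_comp,
      Scheme.IdealSheafData.le_map_iff_comap_le, hJ']
  let v₀s : V.left ⟶ J.subscheme := IsClosedImmersion.lift J.subschemeι (ι.left ≫ wU.left) hle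
  have hv₀s : v₀s ≫ J.subschemeι = ι.left ≫ wU.left := IsClosedImmersion.lift_fac _ _ _
  have sq₀ : IsPullback ι.left v₀s wU.left J.subschemeι :=
    isPullback_of_isClosedImmersion ι.left J.subschemeι v₀s wU.left hv₀s.symm
      (by rw [Scheme.IdealSheafData.ker_subschemeι, hJ'])
  let v₀ : V ⟶ U₀ := Over.homMk v₀s (by
    change v₀s ≫ J.subschemeι ≫ U.hom = V.hom
    rw [← Category.assoc, hv₀s, Category.assoc, Over.w wU, Over.w ι])
  have hv₀i : v₀ ≫ i₀ = pV := by
    apply Over.OverMorphism.ext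
    change v₀s ≫ J.subschemeι = pV.left
    rw [hv₀s, ← Over.comp_left, hι1]
  obtain ⟨u₀, hu₀def⟩ : ∃ u₀ : U₀ ⟶ T, u₀ = i₀ ≫ u := ⟨_, rfl⟩
  have sqV₀s : IsPullback qV.left v₀s g.left u₀.left := by
    have := sq₀.paste_horiz sqWs.flip
    rw [← Over.comp_left, hι2] at this
    rw [hu₀def]
    exact this
  have hcomm : qV ≫ g = v₀ ≫ u₀ := by
    rw [hu₀def, ← Category.assoc, hv₀i, hpq]
  have sqV₀ : IsPullback qV v₀ g u₀ := IsPullback.of_map (Over.forget S) hcomm sqV₀s
  -- `u₀` is etale and surjective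
  have hu₀e : Etale u₀.left :=
    MorphismProperty.DescendsAlong.of_isPullback (P := @Etale)
      (Q := @Surjective ⊓ @Flat ⊓ @QuasiCompact) sqV₀s
      ⟨⟨inferInstance, inferInstance⟩, inferInstance⟩ hqVe
  have hu₀s : Surjective u₀.left := by
    refine ⟨fun t => ?_⟩
    obtain ⟨t', rfl⟩ := (inferInstance : Surjective g.left).surj t
    obtain ⟨v, rfl⟩ := hqVs.surj t'
    refine ⟨v₀s v, ?_⟩
    have := congrArg (fun φ : V.left ⟶ T.left => φ v) sqV₀s.w
    simp only [Scheme.Hom.comp_apply] at this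
    exact this.symm
  -- the descended map on the chart
  obtain ⟨m₀, hm₀def⟩ : ∃ m₀ : (yon S).obj U₀ ⟶ P, m₀ = (yon S).map i₀ ≫ a := ⟨_, rfl⟩
  have hm₀π : m₀ ≫ π = (yon S).map u₀ := by
    rw [hm₀def, Category.assoc, ← hu, ← Functor.map_comp, hu₀def]
  have hv₀m : (yon S).map v₀ ≫ m₀ = (yon S).map qV ≫ lam := by
    rw [hm₀def, ← Category.assoc, ← Functor.map_comp, hv₀i, sqV.w]
  haveI : Epi ((yon S).map u₀) :=
    Groth.Agent.Helper15.Norm.epi_of_etale_surjective _ ((repWith_yon_map_iff _ u₀).2 hu₀e)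
      ((repWith_yon_map_iff _ u₀).2 hu₀s)
  haveI : Epi ((yon S).map qV) :=
    Groth.Agent.Helper15.Norm.epi_of_etale_surjective _ ((repWith_yon_map_iff _ qV).2 hqVe)
      ((repWith_yon_map_iff _ qV).2 hqVs)
  obtain ⟨l, hl⟩ := Groth.Agent.Helper15.AffDesc.exists_desc_of_epi ((yon S).map u₀) m₀ (by
    intro X x y hxy
    obtain ⟨x', rfl⟩ := (yon S).map_surjective x
    obtain ⟨y', rfl⟩ := (yon S).map_surjective y
    have hxy' : x' ≫ u₀ = y' ≫ u₀ := (yon S).map_injective (by
      rw [Functor.map_comp, Functor.map_comp, hxy])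
    -- base change of `g` to `X`
    have sqX : IsPullback (pullback.fst (x' ≫ u₀) g) (pullback.snd (x' ≫ u₀) g) (x' ≫ u₀) g :=
      IsPullback.of_hasPullback _ _
    obtain ⟨X', h, t, sqX⟩ : ∃ (X' : Over S) (h : X' ⟶ X) (t : X' ⟶ T'),
      IsPullback h t (x' ≫ u₀) g := ⟨_, _, _, sqX⟩
    have sqXs : IsPullback h.left t.left (x' ≫ u₀).left g.left := sqX.map (Over.forget S)
    haveI : Flat h.left := MorphismProperty.of_isPullback (P := @Flat) sqXs.flip inferInstance
    haveI : Surjective h.left :=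
      MorphismProperty.of_isPullback (P := @Surjective) sqXs.flip inferInstance
    haveI : QuasiCompact h.left :=
      MorphismProperty.of_isPullback (P := @QuasiCompact) sqXs.flip inferInstance
    have hmm : ((yon S).map x' ≫ m₀) ≫ π = ((yon S).map y' ≫ m₀) ≫ π := by
      rw [Category.assoc, Category.assoc, hm₀π, ← Functor.map_comp, ← Functor.map_comp, hxy']
    refine eq_of_fpqc π hπ _ _ hmm h ?_
    have hx'' : t ≫ g = (h ≫ x') ≫ u₀ := by rw [Category.assoc, sqX.w]
    have hy'' : t ≫ g = (h ≫ y') ≫ u₀ := by rw [Category.assoc, ← hxy', sqX.w]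
    have e1 : (yon S).map (h ≫ x') ≫ m₀ = (yon S).map t ≫ lam := by
      rw [← sqV₀.lift_snd t (h ≫ x') hx'', Functor.map_comp, Category.assoc, hv₀m,
        ← Category.assoc, ← Functor.map_comp, sqV₀.lift_fst]
    have e2 : (yon S).map (h ≫ y') ≫ m₀ = (yon S).map t ≫ lam := by
      rw [← sqV₀.lift_snd t (h ≫ y') hy'', Functor.map_comp, Category.assoc, hv₀m,
        ← Category.assoc, ← Functor.map_comp, sqV₀.lift_fst]
    rw [← Category.assoc, ← Category.assoc, ← Functor.map_comp, ← Functor.map_comp, e1, e2])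
  refine ⟨l, ?_, ?_⟩
  · rw [← cancel_epi ((yon S).map qV), ← Category.assoc, ← Functor.map_comp, hcomm,
      Functor.map_comp, Category.assoc, hl, hv₀m]
  · rw [← cancel_epi ((yon S).map u₀), ← Category.assoc, hl, hm₀π, Category.comp_id]

end main

end Groth.Agent.Helper19.FpqcSep
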