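import Mathlib
import Groth.Prelude
import Groth.Agent.Lib.Helper15.AlgSpBasic
import Groth.Agent.Lib.Helper23.FpqcIdeal1

/-!
# Equalizers of maps into a relatively separated sheaf (helper19)

For `π : P ⟶ B` separated and `m₁ m₂ : h_T ⟶ P` with the same composite to `B`, the locus where
`m₁ = m₂` is a closed subscheme of `T`; hence two such maps agreeing after a scheme-theoretically
dominant morphism agree.
-/

set_option autoImplicit false
set_option linter.style.haveILetI false
universe u
open CategoryTheory CategoryTheory.Limits AlgebraicGeometry MorphismProperty TopologicalSpace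
open AlgSp Groth.Agent.Helper15

namespace Groth.Agent.Helper19.FpqcSep

variable {S : Scheme.{u}}

/-- A closed immersion through which a scheme-theoretically dominant morphism factors is an
isomorphism. -/
theorem isIso_of_isClosedImmersion_of_dominant {E X X' : Scheme.{u}} (i : E ⟶ X)
    [IsClosedImmersion i] (h : X' ⟶ X) [IsSchemeTheoreticallyDominant h] (k : X' ⟶ E)
    (hk : k ≫ i = h) : IsIso i := by
  rw [IsClosedImmersion.isIso_iff_ker_eq_bot, ← le_bot_iff, ← h.ker_eq_bot, ← hk]
  exact Scheme.Hom.le_ker_comp _ _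

/-- **The equalizer of two maps into a relatively separated sheaf** is a closed subscheme. -/
theorem exists_equalizer {P B : Sp S} (π : P ⟶ B) (hπ : IsSeparatedMor π) {T : Over S}
    (m₁ m₂ : (yon S).obj T ⟶ P) (hm : m₁ ≫ π = m₂ ≫ π) :
    ∃ (E : Over S) (i : E ⟶ T), IsClosedImmersion i.left ∧
      (yon S).map i ≫ m₁ = (yon S).map i ≫ m₂ ∧
      ∀ (X : Over S) (x : X ⟶ T), (yon S).map x ≫ m₁ = (yon S).map x ≫ m₂ →
        ∃ k : X ⟶ E, k ≫ i = x := by
  let d : (yon S).obj T ⟶ pullback π π := pullback.lift m₁ m₂ hm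
  have hd1 : d ≫ pullback.fst π π = m₁ := pullback.lift_fst _ _ _
  have hd2 : d ≫ pullback.snd π π = m₂ := pullback.lift_snd _ _ _
  have hrep := hπ.rep
  have hpb := hrep.isPullback d
  have hcl : IsClosedImmersion (hrep.snd d).left := hπ.property d _ _ hpb
  refine ⟨_, hrep.snd d, hcl, ?_, ?_⟩
  · rw [← hd1, ← hd2, ← Category.assoc, ← Category.assoc, ← hpb.w, Category.assoc, Category.assoc,
      pullback.diagonal_fst, pullback.diagonal_snd]
  · intro X x hx
    have hw : ((yon S).map x ≫ m₁) ≫ pullback.diagonal π = (yon S).map x ≫ d := by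
      apply pullback.hom_ext
      · rw [Category.assoc, pullback.diagonal_fst, Category.comp_id, Category.assoc, hd1]
      · rw [Category.assoc, pullback.diagonal_snd, Category.comp_id, Category.assoc, hd2, hx]
    obtain ⟨k, hk⟩ := (yon S).map_surjective (hpb.lift _ _ hw)
    refine ⟨k, (yon S).map_injective ?_⟩
    rw [Functor.map_comp, hk, hpb.lift_snd]

/-- Two maps into a relatively separated sheaf, over the same map to the base, which agree after a
scheme-theoretically dominant morphism, agree. -/
theorem eq_of_dominant {P B : Sp S} (π : P ⟶ B) (hπ : IsSeparatedMor π) {T X' : Over S}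
    (m₁ m₂ : (yon S).obj T ⟶ P) (hm : m₁ ≫ π = m₂ ≫ π) (h : X' ⟶ T)
    [IsSchemeTheoreticallyDominant h.left]
    (hh : (yon S).map h ≫ m₁ = (yon S).map h ≫ m₂) : m₁ = m₂ := by
  obtain ⟨E, i, hcl, hi, huniv⟩ := exists_equalizer π hπ m₁ m₂ hm
  obtain ⟨k, hk⟩ := huniv X' h hh
  haveI : IsIso i.left := isIso_of_isClosedImmersion_of_dominant i.left h.left k.left
    (by rw [← Over.comp_left, hk])
  haveI : IsIso ((Over.forget S).map i) := this
  haveI : IsIso i := isIso_of_reflects_iso _ (Over.forget S)
  rw [← cancel_epi ((yon S).map i)]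
  exact hi

/-- variant: fpqc morphisms are scheme-theoretically dominant. -/
theorem eq_of_fpqc {P B : Sp S} (π : P ⟶ B) (hπ : IsSeparatedMor π) {T X' : Over S}
    (m₁ m₂ : (yon S).obj T ⟶ P) (hm : m₁ ≫ π = m₂ ≫ π) (h : X' ⟶ T)
    [Flat h.left] [Surjective h.left] [QuasiCompact h.left]
    (hh : (yon S).map h ≫ m₁ = (yon S).map h ≫ m₂) : m₁ = m₂ := by
  haveI := Groth.Agent.Helper23.FpqcIdeal.isSchemeTheoreticallyDominant_of_fpqc h.left
  exact eq_of_dominant π hπ m₁ m₂ hm h hh

end Groth.Agent.Helper19.FpqcSep
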