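import Groth.Agent.Lib.Helper19.FpqcSep.Desc
import Groth.Agent.Lib.Helper19.EpiSTD
import Groth.Agent.Lib.Helper15.AlgSpField

/-!
# For a separated morphism, a lift after a dominating extension descends (helper19)
-/

set_option autoImplicit false
set_option linter.style.haveILetI false
universe u
open CategoryTheory CategoryTheory.Limits AlgebraicGeometry MorphismProperty TopologicalSpace
open AlgSp Groth.Agent.Helper15 IsLocalRing

namespace Groth.Agent.Helper19.FpqcSep



variable {S : Scheme.{u}}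

/-- a local homomorphism of valuation rings (domains) is flat -/
theorem flat_of_valuationRing {A A' : Type u} [CommRing A] [IsDomain A] [ValuationRing A]
    [CommRing A'] [IsDomain A'] (φ : A →+* A') (hφ : Function.Injective φ) : φ.Flat := by
  algebraize [φ]
  change Module.Flat A A'
  rw [Module.Flat.flat_iff_torsion_eq_bot_of_isBezout, eq_bot_iff]
  rintro x ⟨⟨r, hr⟩, h⟩
  have h' : φ r * x = 0 := h
  rcases mul_eq_zero.1 h' with h0 | h0
  · exfalso
    have : r = 0 := hφ (by rw [h0, map_zero])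
    exact (nonZeroDivisors.ne_zero hr) this
  · exact h0

theorem isSeparatedMor_of_isPullback' {X Y X' Y' : Sp S} {f : X ⟶ Y} {g : Y' ⟶ Y} {f' : X' ⟶ Y'}
    {g' : X' ⟶ X} (sq : IsPullback g' f' f g) (hf : IsSeparatedMor f) : IsSeparatedMor f' := by
  have e : (IsSeparatedMor : MorphismProperty (Sp S)) = (RepWith @IsClosedImmersion).diagonal := rfl
  rw [e] at hf ⊢
  exact MorphismProperty.of_isPullback sq hf

theorem mono_SpecMap_of_epi {R R' : CommRingCat.{u}} (φ : R ⟶ R') [Epi φ] : Mono (Spec.map φ) := by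
  haveI : Mono φ.op := inferInstance
  exact inferInstanceAs (Mono (Scheme.Spec.map φ.op))

/-- **S10284**: for a separated morphism, a valuative square which has a lift after a dominating
extension of the valuation ring has a lift. -/
theorem hasLift_of_domExt_of_separated {X Y : Sp S} (hX : IsAlgSpace X) (hY : IsAlgSpace Y)
    (f : X ⟶ Y) (hf : IsSeparatedMor f) (sq : ValSq f) (e₀ : sq.DomExt) (he : e₀.HasLift) :
    sq.HasLift := by
  obtain ⟨l, hl1, hl2⟩ := he
  have pb : IsPullback (pullback.fst f sq.bot) (pullback.snd f sq.bot) f sq.bot :=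
    IsPullback.of_hasPullback _ _
  have hP : IsAlgSpace (pullback f sq.bot) :=
    isAlgSpace_of_isPullback hY.diag hX (IsAlgSpace.yon_obj _) pb
  have hπ : IsSeparatedMor (pullback.snd f sq.bot) := isSeparatedMor_of_isPullback' pb hf
  let σ : (yon S).obj sq.ptK ⟶ pullback f sq.bot := pb.lift sq.top ((yon S).map sq.j) sq.comm
  have hσ1 : σ ≫ pullback.fst f sq.bot = sq.top := pb.lift_fst _ _ _
  have hσ2 : σ ≫ pullback.snd f sq.bot = (yon S).map sq.j := pb.lift_snd _ _ _
  let φ' : e₀.ptA' ⟶ sq.ptA := Over.homMk (Spec.map (CommRingCat.ofHom e₀.φ)) rfl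
  let lam : (yon S).obj e₀.ptA' ⟶ pullback f sq.bot := pb.lift l ((yon S).map φ') hl2
  have hlam1 : lam ≫ pullback.fst f sq.bot = l := pb.lift_fst _ _ _
  have hlam2 : lam ≫ pullback.snd f sq.bot = (yon S).map φ' := pb.lift_snd _ _ _
  let jK' : e₀.ptK' ⟶ e₀.ptA' :=
    Over.homMk (Spec.map (CommRingCat.ofHom (algebraMap e₀.A' e₀.K'))) rfl
  have hSpec : Spec.map (CommRingCat.ofHom (algebraMap e₀.A' e₀.K')) ≫
      Spec.map (CommRingCat.ofHom e₀.φ) =
      Spec.map (CommRingCat.ofHom e₀.ψ) ≫ Spec.map (CommRingCat.ofHom (algebraMap sq.A sq.K)) := by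
    rw [← Spec.map_comp, ← Spec.map_comp, ← CommRingCat.ofHom_comp, ← CommRingCat.ofHom_comp,
      e₀.comm]
  have hwψ : Spec.map (CommRingCat.ofHom e₀.ψ) ≫ sq.ptK.hom = e₀.ptK'.hom := by
    change Spec.map _ ≫ Spec.map _ ≫ _ = Spec.map _ ≫ Spec.map _ ≫ _
    rw [← Category.assoc, ← hSpec, Category.assoc]
  let ψ' : e₀.ptK' ⟶ sq.ptK := Over.homMk (Spec.map (CommRingCat.ofHom e₀.ψ)) hwψ
  have hjψ : jK' ≫ φ' = ψ' ≫ sq.j := by
    ext
    exact hSpec
  have hlamK : (yon S).map jK' ≫ lam = (yon S).map ψ' ≫ σ := by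
    apply pb.hom_ext
    · rw [Category.assoc, hlam1, Category.assoc, hσ1]
      exact hl1
    · rw [Category.assoc, hlam2, Category.assoc, hσ2, ← Functor.map_comp, ← Functor.map_comp,
        hjψ]
  -- `φ'` is fpqc
  have hφinj : Function.Injective e₀.φ := by
    have h1 : Function.Injective ((algebraMap e₀.A' e₀.K').comp e₀.φ) := by
      rw [e₀.comm]
      exact (RingHom.injective e₀.ψ).comp (IsFractionRing.injective sq.A sq.K)
    exact Function.Injective.of_comp h1
  have hφflat : e₀.φ.Flat := flat_of_valuationRing e₀.φ hφinj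
  haveI hFlat : Flat φ'.left := (HasRingHomProperty.Spec_iff (P := @Flat)).2 hφflat
  haveI hSurj : Surjective φ'.left := by
    haveI := e₀.isLocalHom
    algebraize [e₀.φ]
    haveI : Module.Flat sq.A e₀.A' := hφflat
    haveI : IsLocalHom (algebraMap sq.A e₀.A') := e₀.isLocalHom
    haveI := Module.FaithfullyFlat.of_flat_of_isLocalHom (A := sq.A) (B := e₀.A')
    exact ⟨PrimeSpectrum.comap_surjective_of_faithfullyFlat (A := sq.A) (B := e₀.A')⟩
  haveI hQC : QuasiCompact φ'.left := inferInstanceAs (QuasiCompact (Spec.map _))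
  -- `Spec K ⟶ Spec A` is a monomorphism
  haveI : Epi (CommRingCat.ofHom (algebraMap sq.A sq.K)) :=
    IsLocalization.epi (nonZeroDivisors sq.A) sq.K
  have hmonoj : Mono sq.j.left := mono_SpecMap_of_epi _
  haveI : Mono sq.j := (Over.forget S).mono_of_mono_map hmonoj
  haveI hjK'd : IsSchemeTheoreticallyDominant jK'.left :=
    Groth.Agent.Helper19.EpiSTD.std_SpecMap _ (IsFractionRing.injective e₀.A' e₀.K')
  haveI hjK'q : QuasiCompact jK'.left := inferInstanceAs (QuasiCompact (Spec.map _))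
  haveI hjd : IsSchemeTheoreticallyDominant sq.j.left :=
    Groth.Agent.Helper19.EpiSTD.std_SpecMap _ (IsFractionRing.injective sq.A sq.K)
  haveI hjq : QuasiCompact sq.j.left := inferInstanceAs (QuasiCompact (Spec.map _))
  haveI hjf : Flat sq.j.left :=
    (HasRingHomProperty.Spec_iff (P := @Flat)).2
      (RingHom.flat_algebraMap_iff.2 (IsLocalization.flat sq.K (nonZeroDivisors sq.A)))
  -- generic agreement
  have G : ∀ (X : Over S) (x : X ⟶ e₀.ptA') (κ : X ⟶ sq.ptK), Flat x.left →
      κ ≫ sq.j = x ≫ φ' → (yon S).map x ≫ lam = (yon S).map κ ≫ σ := by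
    intro X x κ hx hκ
    have hmm : ((yon S).map x ≫ lam) ≫ pullback.snd f sq.bot =
        ((yon S).map κ ≫ σ) ≫ pullback.snd f sq.bot := by
      rw [Category.assoc, Category.assoc, hlam2, hσ2, ← Functor.map_comp, ← Functor.map_comp, hκ]
    obtain ⟨X'', h, t, sqX⟩ : ∃ (X'' : Over S) (h : X'' ⟶ X) (t : X'' ⟶ e₀.ptK'),
      IsPullback h t x jK' := ⟨_, _, _, IsPullback.of_hasPullback x jK'⟩
    have sqXs : IsPullback h.left t.left x.left jK'.left := sqX.map (Over.forget S)
    haveI := hx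
    haveI : IsSchemeTheoreticallyDominant h.left :=
      IsSchemeTheoreticallyDominant.of_isPullback sqXs.flip
    refine eq_of_dominant _ hπ _ _ hmm h ?_
    have hκt : h ≫ κ = t ≫ ψ' := by
      rw [← cancel_mono sq.j, Category.assoc, hκ, ← Category.assoc, sqX.w, Category.assoc, hjψ,
        Category.assoc]
    rw [← Category.assoc, ← Functor.map_comp, sqX.w, Functor.map_comp, Category.assoc, hlamK,
      ← Category.assoc, ← Category.assoc, ← Functor.map_comp, ← Functor.map_comp, hκt]
  -- the two pullbacks of `lam` agree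
  have H : ∀ (X : Over S) (x y : X ⟶ e₀.ptA'), x ≫ φ' = y ≫ φ' →
      (yon S).map x ≫ lam = (yon S).map y ≫ lam := by
    intro X x y hxy
    obtain ⟨T'', p₁, p₂, sqT⟩ : ∃ (T'' : Over S) (p₁ p₂ : T'' ⟶ e₀.ptA'),
      IsPullback p₁ p₂ φ' φ' := ⟨_, _, _, IsPullback.of_hasPullback φ' φ'⟩
    suffices hT : (yon S).map p₁ ≫ lam = (yon S).map p₂ ≫ lam by
      obtain ⟨z, h1, h2⟩ : ∃ z : X ⟶ T'', z ≫ p₁ = x ∧ z ≫ p₂ = y :=
        ⟨sqT.lift x y hxy, sqT.lift_fst x y hxy, sqT.lift_snd x y hxy⟩
      rw [← h1, ← h2, Functor.map_comp, Functor.map_comp, Category.assoc, Category.assoc, hT]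
    have sqTs : IsPullback p₁.left p₂.left φ'.left φ'.left := sqT.map (Over.forget S)
    haveI : Flat p₂.left := MorphismProperty.of_isPullback (P := @Flat) sqTs inferInstance
    haveI : Flat p₁.left := MorphismProperty.of_isPullback (P := @Flat) sqTs.flip inferInstance
    obtain ⟨X', h, κ, sqX⟩ : ∃ (X' : Over S) (h : X' ⟶ T'') (κ : X' ⟶ sq.ptK),
      IsPullback h κ (p₁ ≫ φ') sq.j := ⟨_, _, _, IsPullback.of_hasPullback _ _⟩
    have sqXs : IsPullback h.left κ.left (p₁ ≫ φ').left sq.j.left := sqX.map (Over.forget S)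
    haveI : Flat h.left := MorphismProperty.of_isPullback (P := @Flat) sqXs.flip inferInstance
    haveI : Flat (p₁ ≫ φ').left := by rw [Over.comp_left]; infer_instance
    haveI : IsSchemeTheoreticallyDominant h.left :=
      IsSchemeTheoreticallyDominant.of_isPullback sqXs.flip
    have hmm : ((yon S).map p₁ ≫ lam) ≫ pullback.snd f sq.bot =
        ((yon S).map p₂ ≫ lam) ≫ pullback.snd f sq.bot := by
      rw [Category.assoc, Category.assoc, hlam2, ← Functor.map_comp, ← Functor.map_comp, sqT.w]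
    refine eq_of_dominant _ hπ _ _ hmm h ?_
    have hf1 : Flat (h ≫ p₁).left := by rw [Over.comp_left]; infer_instance
    have hf2 : Flat (h ≫ p₂).left := by rw [Over.comp_left]; infer_instance
    rw [← Category.assoc, ← Category.assoc, ← Functor.map_comp, ← Functor.map_comp,
      G X' (h ≫ p₁) κ hf1 (by rw [Category.assoc, sqX.w]),
      G X' (h ≫ p₂) κ hf2 (by rw [Category.assoc, ← sqT.w, sqX.w])]
  -- a chart through the image of the closed point
  obtain ⟨U, hU, a, u', hae, hu'⟩ := exists_affine_etale_nbhd hP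
    (Points.ofPt lam (closedPoint e₀.A'))
  obtain ⟨V, pV, qV, sqV⟩ : ∃ (V : Over S) (pV : V ⟶ U) (qV : V ⟶ e₀.ptA'),
      IsPullback ((yon S).map pV) ((yon S).map qV) a lam := ⟨_, _, _, hae.rep.isPullback' lam⟩
  haveI hqV : Etale qV.left := hae.property lam _ _ sqV
  obtain ⟨v', hv'1, hv'2⟩ := exists_of_ofPt_eq sqV u' (closedPoint e₀.A') hu'
  have hqVs : Surjective qV.left := by
    refine ⟨fun x => ?_⟩
    have hopen : IsOpen (Set.range qV.left) := qV.left.isOpenMap.isOpen_range
    have hx : x ⤳ closedPoint e₀.A' := specializes_closedPoint x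
    exact hx.mem_open hopen ⟨v', hv'2⟩
  obtain ⟨lA, hlA1, hlA2⟩ := exists_descent (pullback.snd f sq.bot) hπ φ' lam hlam2 H a hae pV qV
    sqV hqVs
  -- the restriction to `Spec K`
  have hjl : (yon S).map sq.j ≫ lA = σ := by
    have hmm : ((yon S).map sq.j ≫ lA) ≫ pullback.snd f sq.bot = σ ≫ pullback.snd f sq.bot := by
      rw [Category.assoc, hlA2, Category.comp_id, hσ2]
    haveI : IsSchemeTheoreticallyDominant ψ'.left :=
      Groth.Agent.Helper19.EpiSTD.std_SpecMap _ (RingHom.injective e₀.ψ)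
    refine eq_of_dominant _ hπ _ _ hmm ψ' ?_
    rw [← Category.assoc, ← Functor.map_comp, ← hjψ, Functor.map_comp, Category.assoc, hlA1, hlamK]
  refine ⟨lA ≫ pullback.fst f sq.bot, ?_, ?_⟩
  · rw [← Category.assoc, hjl, hσ1]
  · rw [Category.assoc, pb.w, ← Category.assoc, hlA2, Category.id_comp]

end Groth.Agent.Helper19.FpqcSep
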